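import Cfsg.Agent.S0274
import Cfsg.Agent.Lib.SL2.SylowTwo
import Cfsg.Agent.Lib.SL2.Card
import Cfsg.Agent.Lib.TwoGroups.RankOne

/-!
Sylow 2-subgroups of subgroups of `SL₂(q)` and of `PSL₂(q)`, `q` odd.
-/

set_option autoImplicit false

open scoped MatrixGroups

namespace CfsgLib.ClassicalForms

variable {F : Type*} [Field F] [Finite F]

lemma eight_dvd_card_sylow_sl2 (hodd : Nat.card F % 2 = 1) (S : Sylow 2 SL(2, F)) :
    8 ∣ Nat.card (S : Subgroup SL(2, F)) := by
  obtain ⟨g, -, h4, -, hS⟩ := CfsgLib.SL2.sylow_two_exists_torus hodd S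
  rw [hS]
  obtain ⟨k, hk⟩ : ∃ k, (Nat.card (Subgroup.centralizer ({g} : Set SL(2, F)))).factorization 2
      = k + 2 := ⟨_, (Nat.sub_add_cancel ((Nat.Prime.pow_dvd_iff_le_factorization Nat.prime_two
        Nat.card_pos.ne').1 h4)).symm⟩
  exact ⟨2 ^ k, by rw [hk]; ring⟩

/-- A Sylow 2-subgroup of `SL₂(q)`, `q` odd, is not commutative. -/
theorem sylow_sl2_not_comm (hodd : Nat.card F % 2 = 1) (S : Sylow 2 SL(2, F)) :
    ¬ ∀ x ∈ (S : Subgroup SL(2, F)), ∀ y ∈ (S : Subgroup SL(2, F)), x * y = y * x := by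
  intro h
  have hle : (S : Subgroup SL(2, F)) ≤ Subgroup.center SL(2, F) := by
    rw [← (CfsgLib.SL2.sylow_two_structure hodd S).1]
    intro x hx
    exact Subgroup.mem_centralizer_iff.2 fun y hy => h y hy x hx
  have h2 : Nat.card (Subgroup.center SL(2, F)) ≤ 2 := by
    rw [← SetLike.coe_sort_coe, CfsgLib.SL2.center_eq, Nat.card_coe_set_eq]
    exact (Set.ncard_insert_le _ _).trans (by rw [Set.ncard_singleton])
  have h8 := Nat.le_of_dvd Nat.card_pos (eight_dvd_card_sylow_sl2 hodd S)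
  have := Subgroup.card_le_of_le hle
  omega

theorem sylow_two_quaternion (p : ℕ) [Fact p.Prime] [CharP F p] (hp : p ≠ 2)
    (H : Subgroup SL(2, F)) (hH : 1 < Nat.card (Sylow p H)) (S : Sylow 2 H) :
    ∃ k : ℕ, 1 ≤ k ∧ Nonempty ((S : Subgroup H) ≃* QuaternionGroup (2 ^ k)) := by
  have := Fintype.ofFinite F
  have h2 : (2 : F) ≠ 0 := by
    refine Ring.two_ne_zero (R := F) ?_
    rw [ringChar.eq F p]
    exact hp
  have hu : CfsgLib.TwoGroups.UniqueOrderP 2 (S : Subgroup H) := by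
    rw [CfsgLib.TwoGroups.uniqueOrderP_iff_unique_involution]
    have key : ∀ a : (S : Subgroup H), orderOf a = 2 → ((a : H) : SL(2, F)) = -1 := fun a ha => by
      refine CfsgLib.SL2.eq_neg_one_of_sq_eq_one h2 ?_ ?_
      · have h1 := pow_orderOf_eq_one a
        rw [ha] at h1
        rw [← Subgroup.coe_pow, ← Subgroup.coe_pow, h1, Subgroup.coe_one, Subgroup.coe_one]
      · intro h
        have : a = 1 := Subtype.ext (Subtype.ext h)
        rw [this, orderOf_one] at ha
        omega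
    intro a b ha hb
    exact Subtype.ext (Subtype.ext ((key a ha).trans (key b hb).symm))
  rcases CfsgLib.TwoGroups.isCyclic_or_quaternion S.isPGroup' hu with hcyc | ⟨-, m, hm, e⟩
  swap; · exact ⟨m, hm, e⟩
  exfalso
  obtain ⟨K, hKH, ⟨e⟩⟩ := Cfsg.Agent.S0274.result p hp H hH
  have hp' : Nat.card (ZMod p) % 2 = 1 := by
    rw [Nat.card_zmod]
    exact Nat.odd_iff.1 ((Fact.out : p.Prime).odd_of_ne_two hp)
  obtain ⟨T⟩ : Nonempty (Sylow 2 SL(2, ZMod p)) := inferInstance
  let φ : SL(2, ZMod p) →* H := (Subgroup.inclusion hKH).comp e.symm.toMonoidHom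
  have hφ : Function.Injective φ := (Subgroup.inclusion_injective hKH).comp e.symm.injective
  obtain ⟨P, hP⟩ := (T.isPGroup'.map φ).exists_le_sylow
  obtain ⟨g, hg⟩ := MulAction.exists_smul_eq H S P
  refine sylow_sl2_not_comm hp' T fun x hx y hy => hφ ?_
  have hxP : φ x ∈ (P : Subgroup H) := hP ⟨x, hx, rfl⟩
  have hyP : φ y ∈ (P : Subgroup H) := hP ⟨y, hy, rfl⟩
  rw [← hg, Sylow.coe_subgroup_smul, Subgroup.mem_pointwise_smul_iff_inv_smul_mem] at hxP hyP
  have := congrArg Subtype.val (IsMulCommutative.is_comm.comm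
    (⟨_, hxP⟩ : (S : Subgroup H)) ⟨_, hyP⟩)
  simp only [Subgroup.coe_mul, ← smul_mul'] at this
  rw [map_mul, map_mul]
  exact MulAction.injective _ this

theorem isKleinFour_sylow_psl2 {q : ℕ} (hF : Nat.card F = q) (hq : q % 8 = 3 ∨ q % 8 = 5)
    (P : Sylow 2 (PSL(2, F))) : IsKleinFour (P : Subgroup (PSL(2, F))) := by
  have hodd : Nat.card F % 2 = 1 := by omega
  have h2 : (2 : F) ≠ 0 := by
    have := Fintype.ofFinite F
    refine Ring.two_ne_zero (R := F) fun hc => ?_
    have := FiniteField.even_card_iff_char_two.1 hc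
    rw [Nat.card_eq_fintype_card] at hodd
    omega
  have hcenter : Nat.card (Subgroup.center SL(2, F)) = 2 := CfsgLib.SL2.center_card_of_odd h2
  obtain ⟨a, b, ha, hb, hodd2⟩ : ∃ a b : ℕ, q * (q ^ 2 - 1) = 2 * (2 * (2 * (a * b))) ∧ True ∧
      ¬ 2 ∣ a * b := by
    have hsq : q ^ 2 - 1 = (q + 1) * (q - 1) := Nat.sq_sub_sq q 1
    rcases hq with h | h
    · refine ⟨q * ((q - 1) / 2), (q + 1) / 4, ?_, trivial, ?_⟩
      · rw [hsq]
        conv_lhs => rw [show q + 1 = 4 * ((q + 1) / 4) by omega,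
          show q - 1 = 2 * ((q - 1) / 2) by omega]
        ring
      · rw [Nat.prime_two.dvd_mul, Nat.prime_two.dvd_mul]; omega
    · refine ⟨q * ((q + 1) / 2), (q - 1) / 4, ?_, trivial, ?_⟩
      · rw [hsq]
        conv_lhs => rw [show q - 1 = 4 * ((q - 1) / 4) by omega,
          show q + 1 = 2 * ((q + 1) / 2) by omega]
        ring
      · rw [Nat.prime_two.dvd_mul, Nat.prime_two.dvd_mul]; omega
  have hcard : Nat.card SL(2, F) = 2 * (2 * (2 * (a * b))) := by rw [CfsgLib.SL2.card_SL, hF, ha]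
  have hfac : (Nat.card SL(2, F)).factorization 2 = 3 := by
    have h0 : a * b ≠ 0 := fun h => hodd2 (by rw [h]; exact dvd_zero 2)
    rw [hcard, show 2 * (2 * (2 * (a * b))) = 2 ^ 3 * (a * b) by ring,
      Nat.factorization_mul (by norm_num) h0, Finsupp.add_apply,
      Nat.factorization_pow, Finsupp.smul_apply, Nat.Prime.factorization_self Nat.prime_two,
      Nat.factorization_eq_zero_of_not_dvd hodd2]
    rfl
  have hq4 : Nat.card PSL(2, F) = 2 * (2 * (a * b)) := by
    have h := Subgroup.card_eq_card_quotient_mul_card_subgroup (Subgroup.center SL(2, F))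
    rw [hcenter, hcard] at h
    show Nat.card (SL(2, F) ⧸ Subgroup.center SL(2, F)) = _
    refine Nat.eq_of_mul_eq_mul_right two_pos (h.symm.trans ?_)
    ring
  have hP : Nat.card (P : Subgroup (PSL(2, F))) = 4 := by
    have h0 : a * b ≠ 0 := fun h => hodd2 (by rw [h]; exact dvd_zero 2)
    rw [P.card_eq_multiplicity, hq4, show 2 * (2 * (a * b)) = 2 ^ 2 * (a * b) by ring,
      Nat.factorization_mul (by norm_num) h0, Finsupp.add_apply,
      Nat.factorization_pow, Finsupp.smul_apply, Nat.Prime.factorization_self Nat.prime_two,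
      Nat.factorization_eq_zero_of_not_dvd hodd2]
    rfl
  have : Nontrivial (P : Subgroup (PSL(2, F))) :=
    Finite.one_lt_card_iff_nontrivial.1 (by rw [hP]; norm_num)
  have hsq : ∀ x ∈ (P : Subgroup (PSL(2, F))), x ^ 2 = 1 := by
    intro x hx
    obtain ⟨g, rfl⟩ := QuotientGroup.mk_surjective x
    have h4 : (g : PSL(2, F)) ^ 4 = 1 := by
      have := congrArg Subtype.val
        (pow_card_eq_one' (x := (⟨_, hx⟩ : (P : Subgroup (PSL(2, F))))))
      rwa [hP] at this
    by_contra hne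
    rw [← QuotientGroup.mk_pow, QuotientGroup.eq_one_iff] at h4 hne
    have hz : ∀ z ∈ Subgroup.center SL(2, F), z ^ 2 = 1 := fun z hz => by
      rcases (CfsgLib.SL2.mem_center_iff z).1 hz with rfl | rfl <;> simp
    have h8 : g ^ 8 = 1 := by
      rw [show 8 = 4 * 2 from rfl, pow_mul]; exact hz _ h4
    have hne4 : g ^ 4 ≠ 1 := fun h => hne (by
      by_cases h1 : g ^ 2 = 1
      · rw [h1]; exact one_mem _
      rw [CfsgLib.SL2.mem_center_iff]
      exact Or.inr (CfsgLib.SL2.eq_neg_one_of_sq_eq_one h2 (by rw [← pow_mul]; exact h) h1))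
    have hord : orderOf g = 2 ^ 3 := orderOf_eq_prime_pow hne4 h8
    let T : Sylow 2 SL(2, F) := Sylow.ofCard (Subgroup.zpowers g) (by
      rw [Nat.card_zpowers, hord, hfac])
    refine sylow_sl2_not_comm hodd T fun x hx y hy => ?_
    obtain ⟨i, rfl⟩ := Subgroup.mem_zpowers_iff.1 hx
    obtain ⟨j, rfl⟩ := Subgroup.mem_zpowers_iff.1 hy
    rw [← zpow_add, ← zpow_add, add_comm]
  refine ⟨hP, Nat.dvd_antisymm (Monoid.exponent_dvd_of_forall_pow_eq_one fun x =>
    Subtype.ext (hsq x x.2)) ?_⟩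
  obtain ⟨x, hx⟩ := exists_ne (1 : (P : Subgroup (PSL(2, F))))
  have h := Monoid.order_dvd_exponent x
  rwa [orderOf_eq_prime (p := 2) (Subtype.ext (hsq x x.2)) hx] at h

end CfsgLib.ClassicalForms
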